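import Mathlib

/-!
The total complex functor preserves quasi-isomorphisms of double complexes bounded below in both
indices.
-/

universe v u

open CategoryTheory CategoryTheory.Limits HomologicalComplex HomologicalComplex₂

namespace Groth.Agent.TotalQis

variable {A : Type u} [Category.{v} A] [Abelian A]

/-- double complexes -/
abbrev DC (A : Type u) [Category.{v} A] [Abelian A] :=
  HomologicalComplex₂ A (ComplexShape.up ℤ) (ComplexShape.up ℤ)

variable (K L : DC A) [K.HasTotal (ComplexShape.up ℤ)] [L.HasTotal (ComplexShape.up ℤ)]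

/-- the projection on a summand -/
noncomputable def pr (p q n : ℤ) : (K.total (ComplexShape.up ℤ)).X n ⟶ (K.X p).X q :=
  K.totalDesc (fun i j _ => if h : i = p ∧ j = q then (K.XXIsoOfEq A (ComplexShape.up ℤ) (ComplexShape.up ℤ) h.1 h.2).hom else 0)

theorem ι_pr_self (p q n : ℤ) (h : p + q = n) :
    K.ιTotal (ComplexShape.up ℤ) p q n h ≫ pr K p q n = 𝟙 _ := by
  simp [pr]

theorem ι_pr_ne (i j p q n : ℤ) (h : i + j = n) (hne : ¬ (i = p ∧ j = q)) :
    K.ιTotal (ComplexShape.up ℤ) i j n h ≫ pr K p q n = 0 := by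
  simp [pr, hne]

theorem pr_eq_zero (p q n : ℤ) (h : p + q ≠ n) : pr K p q n = 0 := by
  apply HomologicalComplex₂.total.hom_ext
  intro i j hij
  rw [comp_zero, ι_pr_ne K i j p q n hij]
  rintro ⟨rfl, rfl⟩
  exact h hij

theorem d_pr (n m p₀ p q₀ q : ℤ) (hm : n + 1 = m) (hp : p₀ + 1 = p) (hq : q₀ + 1 = q) :
    (K.total (ComplexShape.up ℤ)).d n m ≫ pr K p q m =
      pr K p₀ q n ≫ (K.d p₀ p).f q + p.negOnePow • (pr K p q₀ n ≫ (K.X p).d q₀ q) := by
  apply HomologicalComplex₂.total.hom_ext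
  intro i j hij
  have hij' : i + j = n := hij
  simp only [HomologicalComplex₂.total_d, Preadditive.comp_add, Preadditive.add_comp,
    HomologicalComplex₂.ι_D₁_assoc, HomologicalComplex₂.ι_D₂_assoc, Linear.comp_units_smul]
  rw [K.d₁_eq (ComplexShape.up ℤ) (show (ComplexShape.up ℤ).Rel i (i + 1) from rfl) j m
      (show i + 1 + j = m by omega),
    K.d₂_eq (ComplexShape.up ℤ) i (show (ComplexShape.up ℤ).Rel j (j + 1) from rfl) m
      (show i + (j + 1) = m by omega)]
  simp only [Linear.units_smul_comp, Category.assoc]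
  have e₁ : ComplexShape.ε₁ (ComplexShape.up ℤ) (ComplexShape.up ℤ) (ComplexShape.up ℤ) (i, j) = 1 := rfl
  have e₂ : ComplexShape.ε₂ (ComplexShape.up ℤ) (ComplexShape.up ℤ) (ComplexShape.up ℤ) (i, j) =
      i.negOnePow := rfl
  rw [e₁, e₂, one_smul]
  congr 1
  · by_cases h : i = p₀ ∧ j = q
    · obtain ⟨rfl, rfl⟩ := h
      subst hp
      rw [ι_pr_self, reassoc_of% (ι_pr_self K i j n hij'), Category.comp_id]
    · rw [ι_pr_ne K (i + 1) j p q m _ (fun h' => h ⟨by omega, h'.2⟩),
        reassoc_of% (ι_pr_ne K i j p₀ q n hij' h), comp_zero, zero_comp]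
  · by_cases h : i = p ∧ j = q₀
    · obtain ⟨rfl, rfl⟩ := h
      subst hq
      rw [ι_pr_self, reassoc_of% (ι_pr_self K i j n hij'), Category.comp_id]
    · rw [ι_pr_ne K i (j + 1) p q m _ (fun h' => h ⟨h'.1, by omega⟩),
        reassoc_of% (ι_pr_ne K i j p q₀ n hij' h), comp_zero, smul_zero, zero_comp, smul_zero]

variable {K L}

theorem map_pr (φ : K ⟶ L) (p q n : ℤ) :
    (HomologicalComplex₂.total.map φ (ComplexShape.up ℤ)).f n ≫ pr L p q n =
      pr K p q n ≫ (φ.f p).f q := by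
  apply HomologicalComplex₂.total.hom_ext
  intro i j hij
  rw [HomologicalComplex₂.ιTotal_map_assoc]
  by_cases h : i = p ∧ j = q
  · obtain ⟨rfl, rfl⟩ := h
    rw [ι_pr_self, reassoc_of% (ι_pr_self K i j n hij), Category.comp_id]
  · rw [ι_pr_ne L i j p q n hij h, reassoc_of% (ι_pr_ne K i j p q n hij h), comp_zero, zero_comp]

variable (a b : ℤ)

theorem eq_zero_of_pr (hK : ∀ p q : ℤ, p < a ∨ q < b → IsZero ((K.X p).X q)) {W : A} {n : ℤ}
    (x : W ⟶ (K.total (ComplexShape.up ℤ)).X n) (h : ∀ p q, x ≫ pr K p q n = 0) : x = 0 := by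
  classical
  let t : ℤ → ((K.total (ComplexShape.up ℤ)).X n ⟶ (K.total (ComplexShape.up ℤ)).X n) :=
    fun p => pr K p (n - p) n ≫ K.ιTotal (ComplexShape.up ℤ) p (n - p) n (show p + (n - p) = n by omega)
  have hid : 𝟙 _ = ∑ p ∈ Finset.Icc a (n - b), t p := by
    apply HomologicalComplex₂.total.hom_ext
    intro i j hij
    have hij' : i + j = n := hij
    rw [Category.comp_id, Preadditive.comp_sum]
    by_cases hz : i < a ∨ j < b
    · exact (hK i j hz).eq_of_src _ _
    rw [Finset.sum_eq_single i]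
    · obtain rfl : j = n - i := by omega
      simp [t, reassoc_of% (ι_pr_self K i (n - i) n hij')]
    · intro p _ hp
      simp [t, reassoc_of% (ι_pr_ne K i j p (n - p) n hij' (fun h' => hp h'.1.symm))]
    · intro hi
      exact absurd (Finset.mem_Icc.2 ⟨by omega, by omega⟩) hi
  rw [← Category.comp_id x, hid, Preadditive.comp_sum]
  exact Finset.sum_eq_zero fun p _ => by simp [t, reassoc_of% (h p (n - p))]

theorem key (φ : K ⟶ L) [QuasiIso φ]
    (hK : ∀ p q : ℤ, p < a ∨ q < b → IsZero ((K.X p).X q))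
    (hL : ∀ p q : ℤ, p < a ∨ q < b → IsZero ((L.X p).X q)) (n : ℤ) :
    ∀ (k : ℕ) (c : ℤ), n + 3 - a ≤ c + k → ∀ {W : A}
      (x : W ⟶ (K.total (ComplexShape.up ℤ)).X (n + 1 + 1)) (y : W ⟶ (L.total (ComplexShape.up ℤ)).X (n + 1)),
      x ≫ (K.total (ComplexShape.up ℤ)).d (n + 1 + 1) (n + 1 + 1 + 1) = 0 →
      x ≫ (HomologicalComplex₂.total.map φ (ComplexShape.up ℤ)).f (n + 1 + 1) =
        y ≫ (L.total (ComplexShape.up ℤ)).d (n + 1) (n + 1 + 1) →
      (∀ p q, q < c → x ≫ pr K p q (n + 1 + 1) = 0) → (∀ p q, q < c → y ≫ pr L p q (n + 1) = 0) →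
      ∃ (W' : A) (π : W' ⟶ W) (_ : Epi π) (u : W' ⟶ (K.total (ComplexShape.up ℤ)).X (n + 1))
        (v : W' ⟶ (L.total (ComplexShape.up ℤ)).X n),
        π ≫ x = u ≫ (K.total (ComplexShape.up ℤ)).d (n + 1) (n + 1 + 1) ∧
        π ≫ y = u ≫ (HomologicalComplex₂.total.map φ (ComplexShape.up ℤ)).f (n + 1) +
          v ≫ (L.total (ComplexShape.up ℤ)).d n (n + 1) := by
  intro k
  induction k with
  | zero =>
    intro c hc W x y _ _ hx hy
    refine ⟨W, 𝟙 W, inferInstance, 0, 0, ?_, ?_⟩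
    · rw [Category.id_comp, zero_comp]
      refine eq_zero_of_pr a b hK x fun p q => ?_
      by_cases hq : q < c
      · exact hx p q hq
      by_cases hp : p + q = n + 1 + 1
      · by_cases hpa : p < a
        · exact (hK p q (Or.inl hpa)).eq_of_tgt _ _
        · exact (show False by omega).elim
      · rw [pr_eq_zero K p q _ hp, comp_zero]
    · rw [Category.id_comp, zero_comp, zero_comp, add_zero]
      refine eq_zero_of_pr a b hL y fun p q => ?_
      by_cases hq : q < c
      · exact hy p q hq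
      by_cases hp : p + q = n + 1
      · by_cases hpa : p < a
        · exact (hL p q (Or.inl hpa)).eq_of_tgt _ _
        · exact (show False by omega).elim
      · rw [pr_eq_zero L p q _ hp, comp_zero]
  | succ k ih =>
    intro c hc W x y hdx hxy hx hy
    obtain ⟨p, hp⟩ : ∃ p, p = n - c := ⟨_, rfl⟩
    let rK := ((HomologicalComplex.eval A (ComplexShape.up ℤ) c).mapHomologicalComplex (ComplexShape.up ℤ)).obj K
    let rL := ((HomologicalComplex.eval A (ComplexShape.up ℤ) c).mapHomologicalComplex (ComplexShape.up ℤ)).obj L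
    let rφ : rK ⟶ rL := ((HomologicalComplex.eval A (ComplexShape.up ℤ) c).mapHomologicalComplex (ComplexShape.up ℤ)).map φ
    haveI : QuasiIso rφ := inferInstance
    let xc : W ⟶ (K.X (p + 1 + 1)).X c := x ≫ pr K (p + 1 + 1) c (n + 1 + 1)
    let yc : W ⟶ (L.X (p + 1)).X c := y ≫ pr L (p + 1) c (n + 1)
    have h1 : xc ≫ (K.d (p + 1 + 1) (p + 1 + 1 + 1)).f c = 0 := by
      have h := congrArg (· ≫ pr K (p + 1 + 1 + 1) c (n + 1 + 1 + 1)) hdx
      simp only [Category.assoc, zero_comp,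
        d_pr K (n + 1 + 1) (n + 1 + 1 + 1) (p + 1 + 1) (p + 1 + 1 + 1) (c - 1) c rfl rfl (by omega),
        Preadditive.comp_add, Linear.comp_units_smul, reassoc_of% (hx (p + 1 + 1 + 1) (c - 1) (by omega)),
        smul_zero, add_zero] at h
      simpa [xc] using h
    have h2 : xc ≫ (φ.f (p + 1 + 1)).f c = yc ≫ (L.d (p + 1) (p + 1 + 1)).f c := by
      have h := congrArg (· ≫ pr L (p + 1 + 1) c (n + 1 + 1)) hxy
      simp only [Category.assoc, map_pr,
        d_pr L (n + 1) (n + 1 + 1) (p + 1) (p + 1 + 1) (c - 1) c rfl rfl (by omega),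
        Preadditive.comp_add, Linear.comp_units_smul, reassoc_of% (hy (p + 1 + 1) (c - 1) (by omega)),
        zero_comp, smul_zero, add_zero] at h
      simpa [xc, yc] using h
    haveI : Mono (HomologicalComplex.homologyMap rφ (p + 1 + 1)) := inferInstance
    haveI : Epi (HomologicalComplex.homologyMap rφ (p + 1)) := inferInstance
    obtain ⟨W₁, π₁, hπ₁, (u₀ : W₁ ⟶ (K.X (p + 1)).X c),
      (hu₀ : π₁ ≫ xc = u₀ ≫ (K.d (p + 1) (p + 1 + 1)).f c)⟩ :=
      (HomologicalComplex.mono_homologyMap_iff_up_to_refinements rφ (p + 1) (p + 1 + 1) (p + 1 + 1 + 1)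
        (by simp) (by simp)).1 inferInstance xc h1 yc h2
    have h3 : (π₁ ≫ yc - u₀ ≫ (φ.f (p + 1)).f c) ≫ (L.d (p + 1) (p + 1 + 1)).f c = 0 := by
      have hc' : (φ.f (p + 1)).f c ≫ (L.d (p + 1) (p + 1 + 1)).f c =
          (K.d (p + 1) (p + 1 + 1)).f c ≫ (φ.f (p + 1 + 1)).f c := by
        rw [← HomologicalComplex.comp_f, ← HomologicalComplex.comp_f, φ.comm]
      rw [Preadditive.sub_comp, sub_eq_zero]
      refine (Category.assoc _ _ _).trans ((congrArg (π₁ ≫ ·) h2.symm).trans ?_)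
      rw [← Category.assoc, hu₀, Category.assoc, Category.assoc, hc']
    obtain ⟨W₂, π₂, hπ₂, (z : W₂ ⟶ (K.X (p + 1)).X c), (hz : z ≫ (K.d (p + 1) (p + 1 + 1)).f c = 0),
      (v₀ : W₂ ⟶ (L.X p).X c), (hv₀ : π₂ ≫ (π₁ ≫ yc - u₀ ≫ (φ.f (p + 1)).f c) =
        z ≫ (φ.f (p + 1)).f c + v₀ ≫ (L.d p (p + 1)).f c)⟩ :=
      (HomologicalComplex.epi_homologyMap_iff_up_to_refinements rφ p (p + 1) (p + 1 + 1)
        (by simp) (by simp)).1 inferInstance _ h3
    let π := π₂ ≫ π₁
    let uc : W₂ ⟶ (K.X (p + 1)).X c := π₂ ≫ u₀ + z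
    have hu : π ≫ xc = uc ≫ (K.d (p + 1) (p + 1 + 1)).f c := by
      simp [π, uc, hu₀, hz, Preadditive.add_comp]
    have hv : π ≫ yc = uc ≫ (φ.f (p + 1)).f c + v₀ ≫ (L.d p (p + 1)).f c := by
      simp only [π, uc, Category.assoc, Preadditive.add_comp]
      rw [Preadditive.comp_sub, sub_eq_iff_eq_add] at hv₀
      rw [hv₀]; abel
    let u : W₂ ⟶ (K.total (ComplexShape.up ℤ)).X (n + 1) :=
      uc ≫ K.ιTotal (ComplexShape.up ℤ) (p + 1) c (n + 1) (show p + 1 + c = n + 1 by omega)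
    let v : W₂ ⟶ (L.total (ComplexShape.up ℤ)).X n :=
      v₀ ≫ L.ιTotal (ComplexShape.up ℤ) p c n (show p + c = n by omega)
    have hupr : ∀ i j, ¬ (p + 1 = i ∧ c = j) → u ≫ pr K i j (n + 1) = 0 := fun i j h => by
      simp [u, ι_pr_ne K (p + 1) c i j (n + 1) (by omega) h]
    have hvpr : ∀ i j, ¬ (p = i ∧ c = j) → v ≫ pr L i j n = 0 := fun i j h => by
      simp [v, ι_pr_ne L p c i j n (by omega) h]
    let x' := π ≫ x - u ≫ (K.total (ComplexShape.up ℤ)).d (n + 1) (n + 1 + 1)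
    let y' := π ≫ y - u ≫ (HomologicalComplex₂.total.map φ (ComplexShape.up ℤ)).f (n + 1) -
      v ≫ (L.total (ComplexShape.up ℤ)).d n (n + 1)
    have hx' : ∀ i j, j < c + 1 → x' ≫ pr K i j (n + 1 + 1) = 0 := by
      intro i j hj
      simp only [x', Preadditive.sub_comp, Category.assoc,
        d_pr K (n + 1) (n + 1 + 1) (i - 1) i (j - 1) j rfl (by omega) (by omega),
        Preadditive.comp_add, Linear.comp_units_smul,
        reassoc_of% (hupr i (j - 1) (by omega)), smul_zero, zero_comp, add_zero]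
      by_cases hjc : j < c
      · rw [hx i j hjc, reassoc_of% (hupr (i - 1) j (by omega)), comp_zero, zero_comp, sub_zero]
      obtain rfl : c = j := by omega
      by_cases hi : i = p + 1 + 1
      · subst hi
        rw [show p + 1 + 1 - 1 = p + 1 by omega]
        simp only [u, Category.assoc, reassoc_of% (ι_pr_self K (p + 1) c (n + 1) (by omega))]
        exact sub_eq_zero.2 hu
      · rw [pr_eq_zero K i c (n + 1 + 1) (by omega), reassoc_of% (hupr (i - 1) c (by omega)),
          comp_zero, comp_zero, zero_comp, sub_zero]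
    have hy' : ∀ i j, j < c + 1 → y' ≫ pr L i j (n + 1) = 0 := by
      intro i j hj
      simp only [y', Preadditive.sub_comp, Category.assoc, map_pr,
        d_pr L n (n + 1) (i - 1) i (j - 1) j rfl (by omega) (by omega),
        Preadditive.comp_add, Linear.comp_units_smul,
        reassoc_of% (hvpr i (j - 1) (by omega)), smul_zero, zero_comp, add_zero]
      by_cases hjc : j < c
      · rw [hy i j hjc, reassoc_of% (hupr i j (by omega)), reassoc_of% (hvpr (i - 1) j (by omega)),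
          comp_zero, zero_comp, zero_comp, sub_zero, sub_zero]
      obtain rfl : c = j := by omega
      by_cases hi : i = p + 1
      · subst hi
        rw [show p + 1 - 1 = p by omega]
        simp only [u, v, Category.assoc, reassoc_of% (ι_pr_self L p c n (by omega)),
          reassoc_of% (ι_pr_self K (p + 1) c (n + 1) (by omega))]
        rw [sub_sub]
        exact sub_eq_zero.2 hv
      · rw [pr_eq_zero L i c (n + 1) (by omega), reassoc_of% (hvpr (i - 1) c (by omega)),
          reassoc_of% (hupr i c (by omega)), comp_zero, comp_zero, zero_comp, zero_comp, sub_zero, sub_zero]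
    obtain ⟨W₃, π₃, hπ₃, u', v', hu', hv'⟩ := ih (c + 1) (by omega) x' y'
      (by simp only [x', Preadditive.sub_comp, Category.assoc, hdx, comp_zero,
            HomologicalComplex.d_comp_d, sub_zero])
      (by simp only [x', y', Preadditive.sub_comp, Category.assoc, hxy,
            HomologicalComplex.d_comp_d, comp_zero, sub_zero, Hom.comm])
      hx' hy'
    refine ⟨W₃, π₃ ≫ π, inferInstance, π₃ ≫ u + u', π₃ ≫ v + v', ?_, ?_⟩
    · simp only [x', Preadditive.comp_sub, sub_eq_iff_eq_add] at hu'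
      simp only [Category.assoc, Preadditive.add_comp, hu']
      abel
    · simp only [y', Preadditive.comp_sub, sub_eq_iff_eq_add] at hv'
      simp only [Category.assoc, Preadditive.add_comp, hv']
      abel

theorem quasiIso_map (φ : K ⟶ L) [QuasiIso φ]
    (hK : ∀ p q : ℤ, p < a ∨ q < b → IsZero ((K.X p).X q))
    (hL : ∀ p q : ℤ, p < a ∨ q < b → IsZero ((L.X p).X q)) :
    QuasiIso (HomologicalComplex₂.total.map φ (ComplexShape.up ℤ)) := by
  have low : ∀ {M : DC A} [M.HasTotal (ComplexShape.up ℤ)],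
      (∀ p q : ℤ, p < a ∨ q < b → IsZero ((M.X p).X q)) → ∀ {W : A} (m : ℤ)
      (x : W ⟶ (M.total (ComplexShape.up ℤ)).X m) (p q : ℤ), q < b → x ≫ pr M p q m = 0 :=
    fun {M} _ hM {W} m x p q hq => (hM p q (Or.inr hq)).eq_of_tgt _ _
  refine ⟨fun i => ?_⟩
  rw [quasiIsoAt_iff_isIso_homologyMap]
  refine @isIso_of_mono_of_epi _ _ _ _ _ _ ?_ ?_
  · obtain ⟨n, rfl⟩ : ∃ n, i = n + 1 + 1 := ⟨i - 2, by omega⟩
    refine (HomologicalComplex.mono_homologyMap_iff_up_to_refinements _ (n + 1) (n + 1 + 1) (n + 1 + 1 + 1)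
      (by simp) (by simp)).2 fun W x hx y hy => ?_
    obtain ⟨W', π, hπ, u, v, hu, -⟩ := key a b φ hK hL n (n + 3 - a - b).toNat b (by omega) x y hx hy
      (fun p q hq => low hK _ x p q hq) (fun p q hq => low hL _ y p q hq)
    exact ⟨W', π, hπ, u, hu⟩
  · obtain ⟨n, rfl⟩ : ∃ n, i = n + 1 := ⟨i - 1, by omega⟩
    refine (HomologicalComplex.epi_homologyMap_iff_up_to_refinements _ n (n + 1) (n + 1 + 1)
      (by simp) (by simp)).2 fun W y hy => ?_
    obtain ⟨W', π, hπ, u, v, hu, hv⟩ := key a b φ hK hL n (n + 3 - a - b).toNat b (by omega)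
      (0 : W ⟶ _) y zero_comp (zero_comp.trans hy.symm)
      (fun p q hq => low hK _ _ p q hq) (fun p q hq => low hL _ y p q hq)
    exact ⟨W', π, hπ, u, by rw [← hu, comp_zero], v, hv⟩

end Groth.Agent.TotalQis
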